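import Mathlib
import Cfsg.Agent.Lib.FischerMTypes.Thirteen.Eigen

/-!
A map of order three of a strongly regular graph that moves every vertex to a non-neighbour: the
arithmetic condition on the traces.

Owner: helper32.
-/

set_option autoImplicit false
set_option linter.style.haveILetI false
set_option linter.unusedSectionVars false

namespace Cfsg.Agent.Lib.FischerMTypes32.Eigen

open Matrix

variable {V : Type*} [Fintype V] [DecidableEq V] {R : V → V → Prop} [DecidableRel R]

/-- the parameters of the graph -/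
structure Srg (R : V → V → Prop) [DecidableRel R] (k l m : ℕ) : Prop where
  symm : ∀ x y, R x y → R y x
  irrefl : ∀ x, ¬ R x x
  deg : ∀ x, (Finset.univ.filter fun z => R x z).card = k
  adj : ∀ x y, R x y → (Finset.univ.filter fun z => R x z ∧ R y z).card = l
  nonadj : ∀ x y, x ≠ y → ¬ R x y → (Finset.univ.filter fun z => R x z ∧ R y z).card = m

/-- the adjacency matrix -/
def adjQ (R : V → V → Prop) [DecidableRel R] : Matrix V V ℚ := fun x y => if R x y then 1 else 0

/-- the all one matrix -/
def onesQ (V : Type*) : Matrix V V ℚ := fun _ _ => 1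

variable {k l m : ℕ}

theorem row_sum (h : Srg R k l m) (x : V) : ∑ z, adjQ R x z = k := by
  simp only [adjQ, Finset.sum_boole]
  rw [h.deg x]

theorem sq_adj (h : Srg R k l m) :
    adjQ R * adjQ R = ((k : ℚ) - m) • (1 : Matrix V V ℚ) + ((l : ℚ) - m) • adjQ R + (m : ℚ) • onesQ V := by
  ext x y
  have e : (adjQ R * adjQ R) x y = ((Finset.univ.filter fun z => R x z ∧ R y z).card : ℚ) := by
    rw [Matrix.mul_apply]
    simp only [adjQ, ← Finset.sum_boole]
    refine Finset.sum_congr rfl fun z _ => ?_
    by_cases h1 : R x z <;> by_cases h2 : R z y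
    · simp [h1, h2, h.symm z y h2]
    · simp [h1, h2, show ¬ R y z from fun h' => h2 (h.symm y z h')]
    · simp [h1]
    · simp [h1]
  rw [e]
  simp only [Matrix.add_apply, Matrix.smul_apply, Matrix.one_apply, onesQ, adjQ, smul_eq_mul, mul_one]
  by_cases hxy : x = y
  · subst hxy
    simp [h.irrefl, h.deg]
  · by_cases hR : R x y
    · simp [hxy, hR, h.adj x y hR]
    · simp [hxy, hR, h.nonadj x y hxy hR]

theorem adj_ones (h : Srg R k l m) : adjQ R * onesQ V = (k : ℚ) • onesQ V := by
  ext x y
  simp [Matrix.mul_apply, onesQ, row_sum h x]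

theorem ones_adj (h : Srg R k l m) : onesQ V * adjQ R = (k : ℚ) • onesQ V := by
  ext x y
  have e : ∀ z, adjQ R z y = adjQ R y z := fun z => by
    simp only [adjQ]
    by_cases h1 : R z y
    · simp [h1, h.symm z y h1]
    · simp [h1, show ¬ R y z from fun h' => h1 (h.symm y z h')]
  simp [Matrix.mul_apply, onesQ, e, row_sum h y]

theorem ones_sq : onesQ V * onesQ V = (Fintype.card V : ℚ) • onesQ V := by
  ext x y
  simp [Matrix.mul_apply, onesQ]

/-- the idempotent of one eigenvalue: `t` is the eigenvalue, `t'` the other one -/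
theorem move_arith (h : Srg R k l m) (t t' n : ℚ) (hn : n = Fintype.card V) (hn0 : n ≠ 0) (htt : t ≠ t')
    (hsum : t + t' = (l : ℚ) - m) (hprod : t * t' = (m : ℚ) - k)
    (hcount : ((k : ℚ) - t) * ((k : ℚ) - t') = m * n)
    {σ : Equiv.Perm V} (hσ : σ ^ 3 = 1) (hR : ∀ x y, R (σ x) (σ y) ↔ R x y) (hfix : ∀ x, σ x ≠ x)
    (hmove : ∀ x, ¬ R x (σ x)) :
    ∃ r s : ℕ, Even s ∧ 3 * (r : ℚ) * (t - t') = -(n * t') - 3 * ((k : ℚ) - t') ∧
      ((r : ℚ) + s) * (t - t') = -(n * t') - ((k : ℚ) - t') := by
  have hd : t - t' ≠ 0 := sub_ne_zero.mpr htt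
  set c := ((k : ℚ) - t') / n with hc
  set A := adjQ R
  set J := onesQ V
  set X : Matrix V V ℚ := A - t' • (1 : Matrix V V ℚ) - c • J with hX
  have hm : ((m : ℚ)) - c * k + c * t' - c * k + c * t' + c * c * n = -(c * (t - t')) := by
    rw [hc]
    field_simp
    linear_combination -hcount
  have hXX : X * X = (t - t') • X := by
    rw [hX]
    simp only [sub_mul, mul_sub, Matrix.smul_mul, Matrix.mul_smul, Matrix.one_mul, Matrix.mul_one]
    rw [sq_adj h, adj_ones h, ones_adj h, ones_sq, ← hn]
    simp only [smul_smul]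
    match_scalars
    · linear_combination hprod
    · linear_combination -hsum
    · linear_combination hm
  set M : Matrix V V ℚ := (1 / (t - t')) • X with hM
  have hMM : M * M = M := by
    rw [hM, Matrix.smul_mul, Matrix.mul_smul, hXX, smul_smul, smul_smul]
    congr 1
    field_simp
  have hsym : ∀ a b, M a b = M b a := fun a b => by
    have e : adjQ R a b = adjQ R b a := by
      simp only [adjQ]
      by_cases h1 : R a b
      · simp [h1, h.symm a b h1]
      · simp [h1, show ¬ R b a from fun h' => h1 (h.symm b a h')]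
    simp only [hM, hX, A, J, Matrix.smul_apply, Matrix.sub_apply, e, onesQ, Matrix.one_apply, eq_comm (a := a)]
  have hinv : ∀ a b, M (σ a) (σ b) = M a b := fun a b => by
    simp [hM, hX, A, J, adjQ, onesQ, Matrix.one_apply, hR]
  obtain ⟨r, s, hs, h1, h2⟩ := FischerMTypes.Thirteen.exists_trace_parts hMM hsym hσ hinv
  have htr : M.trace * (t - t') = -(n * t') - ((k : ℚ) - t') := by
    have e : ∀ x, M x x = (1 / (t - t')) * (-t' - c) := fun x => by
      simp [hM, hX, A, J, adjQ, onesQ, h.irrefl]
    show (∑ x, M x x) * _ = _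
    simp only [e, Finset.sum_const, Finset.card_univ, nsmul_eq_mul, ← hn]
    rw [hc]
    field_simp
  have hoff : (∑ a, M a (σ a)) * (t - t') = -((k : ℚ) - t') := by
    have e : ∀ x, M x (σ x) = (1 / (t - t')) * (-c) := fun x => by
      simp [hM, hX, A, J, adjQ, onesQ, hmove x, Ne.symm (hfix x)]
    simp only [e, Finset.sum_const, Finset.card_univ, nsmul_eq_mul, ← hn]
    rw [hc]
    field_simp
  refine ⟨r, s, hs, ?_, ?_⟩
  · rw [h1]; linear_combination htr + 2 * hoff
  · rw [h2]; exact htr

/-- the graph with parameters (45, 12, 3, 3) -/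
theorem exists_move_quad (h : Srg R 12 3 3) (hV : Fintype.card V = 45) {σ : Equiv.Perm V} (hσ : σ ^ 3 = 1)
    (hR : ∀ x y, R (σ x) (σ y) ↔ R x y) (hfix : ∀ x, σ x ≠ x) : ∃ x, R x (σ x) := by
  by_contra hc
  push Not at hc
  obtain ⟨r, s, hs, h1, h2⟩ := move_arith h 3 (-3) 45 (by rw [hV]; norm_num) (by norm_num) (by norm_num)
    (by norm_num) (by norm_num) (by norm_num) hσ hR hfix hc
  norm_num at h1 h2
  have hr : (r : ℚ) = 5 := by linarith
  have hs' : (s : ℚ) = 15 := by linarith
  have : s = 15 := by exact_mod_cast hs'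
  subst this
  exact absurd hs (by decide)

/-- the graph with parameters (31671, 3510, 693, 351) -/
theorem exists_move_large (h : Srg R 3510 693 351) (hV : Fintype.card V = 31671) {σ : Equiv.Perm V}
    (hσ : σ ^ 3 = 1) (hR : ∀ x y, R (σ x) (σ y) ↔ R x y) (hfix : ∀ x, σ x ≠ x) : ∃ x, R x (σ x) := by
  by_contra hc
  push Not at hc
  obtain ⟨r, s, -, h1, -⟩ := move_arith h 351 (-9) 31671 (by rw [hV]; norm_num) (by norm_num) (by norm_num)
    (by norm_num) (by norm_num) (by norm_num) hσ hR hfix hc
  norm_num at h1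
  have e : (r : ℚ) * 1080 = 274482 := by linarith
  have e' : r * 1080 = 274482 := by exact_mod_cast e
  omega

end Cfsg.Agent.Lib.FischerMTypes32.Eigen
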