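import Mathlib
import Cfsg.Agent.Lib.FischerMTypes32.Eigen
import Cfsg.Agent.Lib.FischerMTypes.M23Data
import Cfsg.Agent.Lib.FischerMTypes.Aut22.Fix
import Cfsg.Agent.Lib.FischerMTypes.Thirteen.Local
import Cfsg.Agent.Lib.FischerMTypes.Large.Tools

/-!
Type M(23): every element of order three centralises a transposition.

If none is fixed, some orbit is a commuting triple `a, b, c`; on the 45 classes of common neighbours of
the triple some class moves to an adjacent one, and the six transpositions so found lie in a stable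
set of 23 pairwise commuting transpositions.

Owner: helper32.
-/

set_option autoImplicit false
set_option linter.style.haveILetI false
set_option linter.unusedSectionVars false

namespace Cfsg.Agent.Lib.FischerMTypes32

open Cfsg.Agent.Lib.FischerMTypes Cfsg.Agent.Lib.FischerMTypes.Basic Cfsg.Agent.Lib.FischerMTypes.Primitive
  Cfsg.Agent.Lib.FischerMTypes.Aut22
open Cfsg.Agent.Lib.FischerMTypes.Thirteen (fixd nbr)
open Cfsg.Agent.Lib.FischerMTypes.TraceCounts (Sys)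
open Cfsg.Agent.Lib.FischerMTypes.Step (StepData)

universe u

variable {G : Type u} [Group G] [Finite G] {D : Set G}

theorem cconj (g u v : G) : Commute (g * u * g⁻¹) (g * v * g⁻¹) ↔ Commute u v := commute_conj_iff g u v

theorem cube_conj {y : G} (hy : y ^ 3 = 1) (v : G) : y * (y * (y * v * y⁻¹) * y⁻¹) * y⁻¹ = v := by
  have e : y * (y * (y * v * y⁻¹) * y⁻¹) * y⁻¹ = y ^ 3 * v * (y ^ 3)⁻¹ := by
    rw [pow_succ, pow_two]; group
  rw [e, hy]; group

/-- some transposition commutes with its image -/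
theorem exists_commuting_move (R : Rank.RankData D 31671 3510 693 351 4585351680) {y : G} (hy : y ^ 3 = 1)
    (hfree : ∀ d ∈ D, ¬ Commute y d) : ∃ a ∈ D, Commute a (y * a * y⁻¹) := by
  classical
  let := Fintype.ofFinite D
  let σ : Equiv.Perm D :=
    { toFun := fun d => ⟨y * d.1 * y⁻¹, R.hD.2.1 y d.1 d.2⟩
      invFun := fun d => ⟨y⁻¹ * d.1 * y, by simpa using R.hD.2.1 y⁻¹ d.1 d.2⟩
      left_inv := fun d => Subtype.ext (by group)
      right_inv := fun d => Subtype.ext (by group) }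
  have hσv : ∀ d : D, ((σ d : D) : G) = y * d.1 * y⁻¹ := fun _ => rfl
  let Rel : D → D → Prop := fun p q => p ≠ q ∧ Commute (p : G) q
  have hperp : ∀ (p q : D), Rel p q ↔ (q : G) ∈ perp D p := fun p q =>
    ⟨fun h => ⟨q.2, fun e => h.1 (Subtype.ext e.symm), h.2⟩, fun h => ⟨fun e => h.2.1 (e ▸ rfl), h.2.2⟩⟩
  have hsrg : Eigen.Srg Rel 3510 693 351 := by
    refine ⟨fun p q h => ⟨Ne.symm h.1, h.2.symm⟩, fun p h => h.1 rfl, fun p => ?_, fun p q hpq => ?_,
      fun p q hne hpq => ?_⟩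
    · rw [← R.perp_card p.1 p.2, ← Set.ncard_coe_finset]
      refine Set.ncard_congr (fun z _ => (z : G)) (fun z hz => ?_) (fun z w _ _ h => Subtype.ext h)
        (fun z hz => ⟨⟨z, hz.1⟩, ?_, rfl⟩)
      · exact (hperp p z).mp (by simpa using hz)
      · simpa using (hperp p ⟨z, hz.1⟩).mpr hz
    · rw [← R.edge p.1 p.2 q.1 ((hperp p q).mp hpq), ← Set.ncard_coe_finset]
      refine Set.ncard_congr (fun z _ => (z : G)) (fun z hz => ?_) (fun z w _ _ h => Subtype.ext h)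
        (fun z hz => ⟨⟨z, hz.1.1⟩, ?_, rfl⟩)
      · simp only [Finset.coe_filter, Finset.mem_univ, true_and, Set.mem_ofPred_eq] at hz
        exact ⟨(hperp p z).mp hz.1, (hperp q z).mp hz.2⟩
      · simp only [Finset.coe_filter, Finset.mem_univ, true_and, Set.mem_ofPred_eq]
        exact ⟨(hperp p _).mpr hz.1, (hperp q _).mpr hz.2⟩
    · rw [← R.trace p.1 p.2 q.1 q.2 (fun h => hpq ⟨hne, h⟩), ← Set.ncard_coe_finset]
      refine Set.ncard_congr (fun z _ => (z : G)) (fun z hz => ?_) (fun z w _ _ h => Subtype.ext h)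
        (fun z hz => ⟨⟨z, hz.1.1⟩, ?_, rfl⟩)
      · simp only [Finset.coe_filter, Finset.mem_univ, true_and, Set.mem_ofPred_eq] at hz
        exact ⟨(hperp p z).mp hz.1, (hperp q z).mp hz.2⟩
      · simp only [Finset.coe_filter, Finset.mem_univ, true_and, Set.mem_ofPred_eq]
        exact ⟨(hperp p _).mpr hz.1, (hperp q _).mpr hz.2⟩
  obtain ⟨p, hp⟩ := Eigen.exists_move_large hsrg (by rw [← Nat.card_eq_fintype_card]; exact R.class_card)
    (σ := σ)
    (Equiv.ext fun d => Subtype.ext (by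
      show ((σ (σ (σ d)) : D) : G) = d.1
      rw [hσv, hσv, hσv]
      exact cube_conj hy d.1))
    (fun p q => and_congr (not_congr σ.injective.eq_iff) (cconj y p.1 q.1))
    (fun d h => hfree d.1 d.2 (mul_inv_eq_iff_eq_mul.mp (congrArg Subtype.val h)))
  exact ⟨p.1, p.2, hp.2⟩

variable {Q : Type u} [Group Q] [Finite Q] {E : Set Q} {F : Type} [Field F] [Fintype F]

/-- the common neighbours of a triple -/
def common (D : Set G) (a b c : G) : Set G :=
  {v | v ∈ perp D a ∧ v ≠ b ∧ Commute b v ∧ v ≠ c ∧ Commute c v}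

/-- the same class of common neighbours -/
def Same (D : Set G) (a b c u v : G) : Prop := ∀ z ∈ common D a b c, Commute u z → Commute v z

theorem same_conj {a b c y u v : G} (hcl : ∀ z ∈ common D a b c, y * z * y⁻¹ ∈ common D a b c) (hy : y ^ 3 = 1)
    (h : Same D a b c u v) : Same D a b c (y * u * y⁻¹) (y * v * y⁻¹) := by
  intro z hz huz
  obtain ⟨z', hz', rfl⟩ : ∃ z' ∈ common D a b c, y * z' * y⁻¹ = z :=
    ⟨_, hcl _ (hcl _ hz), cube_conj hy z⟩
  exact (cconj y v z').mpr (h z' hz' ((cconj y u z').mp huz))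

variable (S22 : Sys E F) (S : StepData D E 3510 693 180 126 6531840)

include S22 S in
/-- no commuting orbit of an element of order three without fixed transpositions -/
theorem triple_false {a b c y : G} (ha : a ∈ D) (hb : b ∈ perp D a) (hc : c ∈ perp D a) (hbc : b ≠ c)
    (hcbc : Commute b c) (hy : y ^ 3 = 1) (hab : y * a * y⁻¹ = b) (hbc' : y * b * y⁻¹ = c)
    (hfree : ∀ d ∈ D, ¬ Commute y d) : False := by
  classical
  set P := S.f ha b with hPdef
  set R := S.f ha c with hRdef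
  have hP : P ∈ E := S.f_mem ha hb
  have hR : R ∈ perp E P := ⟨S.f_mem ha hc, fun h => hbc (S.f_inj ha hb hc h.symm),
    (S.commute_iff ha hb hc).mpr hcbc⟩
  have hca : y * c * y⁻¹ = a := by rw [← hbc', ← hab]; exact cube_conj hy a
  set U := common D a b c with hU
  have hcl : ∀ v ∈ U, y * v * y⁻¹ ∈ U := by
    rintro v ⟨⟨hv, hva, hcva⟩, hvb, hcvb, hvc, hcvc⟩
    have hinj : ∀ {p q : G}, y * p * y⁻¹ = y * q * y⁻¹ → p = q := fun {p q} h => by simpa using h
    refine ⟨⟨S.hD.2.1 y v hv, fun h => hvc (hinj (h.trans hca.symm)), ?_⟩, fun h => hva (hinj (h.trans hab.symm)),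
      ?_, fun h => hvb (hinj (h.trans hbc'.symm)), ?_⟩
    · rw [← hca]; exact (cconj y c v).mpr hcvc
    · rw [← hab]; exact (cconj y a v).mpr hcva
    · rw [← hbc']; exact (cconj y b v).mpr hcvb
  have hmem : ∀ {v : G}, v ∈ U → S.f ha v ∈ perp₂ E P R := by
    rintro v ⟨hv, hvb, hcvb, hvc, hcvc⟩
    exact ⟨⟨S.f_mem ha hv, fun h => hvb (S.f_inj ha hv hb h), (S.commute_iff ha hb hv).mpr hcvb⟩,
      S.f_mem ha hv, fun h => hvc (S.f_inj ha hv hc h), (S.commute_iff ha hc hv).mpr hcvc⟩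
  have hlift : ∀ {q : Q}, q ∈ perp₂ E P R → ∃ v ∈ U, S.f ha v = q := by
    rintro q ⟨⟨hq, hqP, hcP⟩, -, hqR, hcR⟩
    obtain ⟨v, hv, rfl⟩ := S.exists_f ha hq
    exact ⟨v, ⟨hv, fun h => hqP (h ▸ rfl), (S.commute_iff ha hb hv).mp hcP, fun h => hqR (h ▸ rfl),
      (S.commute_iff ha hc hv).mp hcR⟩, rfl⟩
  have hcom : ∀ {v w : G}, v ∈ U → w ∈ U → (Commute (S.f ha v) (S.f ha w) ↔ Commute v w) :=
    fun hv hw => S.commute_iff ha hv.1 hw.1
  have hsix : ∀ {v w : G}, v ∈ U → w ∈ U →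
      (S.f ha w ∈ six E P R (S.f ha v) ↔ Same D a b c v w) := by
    intro v w hv hw
    constructor
    · intro h z hz hvz
      exact (hcom hw hz).mp (h.2 _ ⟨S.f_mem ha hz.1, (hmem hz).1.2.2, (hmem hz).2.2.2, (hcom hv hz).mpr hvz⟩)
    · intro h
      refine ⟨⟨S.f_mem ha hw.1, (hmem hw).1.2.2, (hmem hw).2.2.2,
        (hcom hv hw).mpr (h v hv (Commute.refl v)).symm⟩, fun q hq => ?_⟩
      by_cases h1 : q = P
      · rw [h1]; exact (hmem hw).1.2.2.symm
      by_cases h2 : q = R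
      · rw [h2]; exact (hmem hw).2.2.2.symm
      obtain ⟨z, hz, rfl⟩ := hlift (q := q) ⟨⟨hq.1, h1, hq.2.1⟩, hq.1, h2, hq.2.2.1⟩
      exact (hcom hw hz).mpr (h z hz ((hcom hv hz).mp hq.2.2.2))
  let := Fintype.ofFinite (Cls E P R)
  have hQ := cls_quad S22 hP hR
  have hsrg : Eigen.Srg (Adj (D := E) (a := P) (b := R)) 12 3 3 :=
    ⟨hQ.symm, hQ.irrefl, hQ.deg, hQ.three, fun x z hne h => hQ.three_of_not_adj hne h⟩
  -- the classes and the map on them
  have hrep : ∀ H : Cls E P R, ∃ (v : G) (hv : v ∈ U), cls (hmem hv) = H := by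
    intro H
    obtain ⟨q, hq, rfl⟩ := H.exists_rep
    obtain ⟨v, hv, rfl⟩ := hlift hq
    exact ⟨v, hv, rfl⟩
  have hclseq : ∀ {v w : G} (hv : v ∈ U) (hw : w ∈ U),
      cls (hmem hv) = cls (hmem hw) ↔ Same D a b c v w := by
    intro v w hv hw
    rw [← hsix hv hw]
    constructor
    · intro h
      have e : six E P R (S.f ha v) = six E P R (S.f ha w) := congrArg Subtype.val h
      rw [e]
      exact (tri_of hP hR (hmem hw)).mem_six (Or.inr (Or.inr rfl))
    · exact fun h => Subtype.ext (six_cls S22 hP hR (hmem hv) (hmem hw) h).symm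
  choose rep hrepU hrepc using hrep
  let s : Cls E P R → Cls E P R := fun H => cls (hmem (hcl _ (hrepU H)))
  have hs : ∀ {v : G} (hv : v ∈ U), s (cls (hmem hv)) = cls (hmem (hcl v hv)) := fun hv =>
    (hclseq (hcl _ (hrepU _)) (hcl _ hv)).mpr
      (same_conj hcl hy ((hclseq (hrepU _) hv).mp (hrepc _)))
  have hs3 : ∀ H, s (s (s H)) = H := by
    intro H
    obtain ⟨v, hv, rfl⟩ : ∃ (v : G) (hv : v ∈ U), cls (hmem hv) = H := ⟨_, hrepU H, hrepc H⟩
    rw [hs hv, hs (hcl v hv), hs (hcl _ (hcl v hv))]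
    exact (hclseq (hcl _ (hcl _ (hcl v hv))) hv).mpr fun z _ hz => (cube_conj hy v) ▸ hz
  let σ : Equiv.Perm (Cls E P R) := ⟨s, fun H => s (s H), hs3, hs3⟩
  have hadj : ∀ {v w : G} (hv : v ∈ U) (hw : w ∈ U),
      Adj (cls (hmem hv)) (cls (hmem hw)) ↔ Commute v w ∧ ¬ Same D a b c v w := fun hv hw => by
    rw [adj_iff S22 hP hR (hmem hv) (hmem hw), hcom hv hw, hsix hv hw]
  have hRel1 : ∀ H K, Adj H K → Adj (s H) (s K) := by
    intro H K h
    obtain ⟨v, hv, rfl⟩ : ∃ (v : G) (hv : v ∈ U), cls (hmem hv) = H := ⟨_, hrepU H, hrepc H⟩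
    obtain ⟨w, hw, rfl⟩ : ∃ (w : G) (hw : w ∈ U), cls (hmem hw) = K := ⟨_, hrepU K, hrepc K⟩
    rw [hadj hv hw] at h
    rw [hs hv, hs hw, hadj (hcl v hv) (hcl w hw)]
    refine ⟨(cconj y v w).mpr h.1, fun hsame => h.2 ?_⟩
    have := same_conj hcl hy (same_conj hcl hy hsame)
    rwa [cube_conj hy v, cube_conj hy w] at this
  have hfix : ∀ H, σ H ≠ H := by
    intro H hH
    obtain ⟨v, hv, rfl⟩ : ∃ (v : G) (hv : v ∈ U), cls (hmem hv) = H := ⟨_, hrepU H, hrepc H⟩
    set T := {w | w ∈ U ∧ Same D a b c v w}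
    have hT : T.ncard = 4 := by
      rw [← cls_card S22 hP hR (hmem hv)]
      refine Set.ncard_congr (fun w _ => S.f ha w) (fun w hw => ?_) (fun w z hw hz h => S.f_inj ha hw.1.1 hz.1.1 h)
        (fun q hq => ?_)
      · exact ⟨hmem hw.1, six_cls S22 hP hR (hmem hv) (hmem hw.1) ((hsix hv hw.1).mpr hw.2)⟩
      · obtain ⟨w, hw, rfl⟩ := hlift hq.1
        exact ⟨w, ⟨hw, (hclseq hv hw).mp (Subtype.ext hq.2.symm)⟩, rfl⟩
    have : Fact (Nat.Prime 3) := ⟨Nat.prime_three⟩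
    have h1 : Same D a b c v (y * v * y⁻¹) :=
      (hclseq hv (hcl v hv)).mp (((hs hv).symm.trans hH).symm)
    obtain ⟨w, hw, hyw⟩ := Large.exists_fixed_elem hy (T := T)
      (fun w hw => ⟨hcl w hw.1, fun z hz hvz => same_conj hcl hy hw.2 z hz (h1 z hz hvz)⟩)
      (by rw [hT]; decide)
    exact hfree w hw.1.1.1 hyw
  obtain ⟨H, hH⟩ := Eigen.exists_move_quad hsrg hQ.card (σ := σ) (Equiv.ext hs3)
    (fun x z => ⟨fun h => by
      have := hRel1 _ _ (hRel1 _ _ h)
      simpa [σ, hs3] using this, hRel1 x z⟩) hfix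
  obtain ⟨u, hu, rfl⟩ : ∃ (u : G) (hu : u ∈ U), cls (hmem hu) = H := ⟨_, hrepU H, hrepc H⟩
  change Adj (cls (hmem hu)) (s (cls (hmem hu))) at hH
  rw [hs hu, hadj hu (hcl u hu)] at hH
  set v := y * u * y⁻¹ with hvdef
  have hv : v ∈ U := hcl u hu
  set w := y * v * y⁻¹ with hwdef
  have hw : w ∈ U := hcl v hv
  have hwu : y * w * y⁻¹ = u := cube_conj hy u
  have hvw : Commute v w := (cconj y u v).mpr hH.1
  have huw : Commute u w := by
    have := (cconj y v w).mpr hvw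
    rw [hwu] at this
    exact this.symm
  have htri := tri_of hP hR (hmem hu)
  have hvcl : S.f ha v ∈ cl3 E P R (S.f ha u) :=
    ⟨S.f_mem ha hv.1, (hmem hv).1.2.2, (hmem hv).2.2.2, (hcom hu hv).mpr hH.1⟩
  obtain ⟨hcard, hclq⟩ := block_spec S22 htri hvcl (fun h => hH.2 ((hsix hu hv).mp h))
  have hblk : ∀ {z : G}, z ∈ U → Commute u z → Commute v z →
      S.f ha z ∈ block E P R (S.f ha u) (S.f ha v) := fun hz h1 h2 =>
    ⟨⟨S.f_mem ha hz.1, (hmem hz).1.2.2, (hmem hz).2.2.2, (hcom hu hz).mpr h1⟩, (hcom hv hz).mpr h2⟩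
  set X := {z | z ∈ U ∧ Commute u z ∧ Commute v z} with hX
  have hXc : X.ncard = 20 := by
    have hsub : ({P, R} : Set Q) ⊆ block E P R (S.f ha u) (S.f ha v) := by
      rintro q (rfl | rfl)
      · exact ⟨htri.mem_cl3 (Or.inl rfl), (hmem hv).1.2.2.symm⟩
      · exact ⟨htri.mem_cl3 (Or.inr (Or.inl rfl)), (hmem hv).2.2.2.symm⟩
    have h := Set.ncard_sdiff_add_ncard_of_subset hsub (Set.toFinite _)
    rw [hcard, Set.ncard_pair htri.nab] at h
    have e : X.ncard = (block E P R (S.f ha u) (S.f ha v) \ {P, R}).ncard := by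
      refine Set.ncard_congr (fun z _ => S.f ha z) (fun z hz => ⟨hblk hz.1 hz.2.1 hz.2.2, ?_⟩)
        (fun z z' hz hz' he => S.f_inj ha hz.1.1 hz'.1.1 he) (fun q hq => ?_)
      · simp only [Set.mem_insert_iff, Set.mem_singleton_iff, not_or]
        exact ⟨(hmem hz.1).1.2.1, (hmem hz.1).2.2.1⟩
      · simp only [Set.mem_sdiff, Set.mem_insert_iff, Set.mem_singleton_iff, not_or] at hq
        obtain ⟨⟨⟨hqE, hqP, hqR, hqu⟩, hqv⟩, n1, n2⟩ := hq
        obtain ⟨z, hz, rfl⟩ := hlift (q := q) ⟨⟨hqE, n1, hqP⟩, hqE, n2, hqR⟩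
        exact ⟨z, ⟨hz, (hcom hu hz).mp hqu, (hcom hv hz).mp hqv⟩, rfl⟩
    omega
  have : Fact (Nat.Prime 3) := ⟨Nat.prime_three⟩
  have hXcl : ∀ z ∈ X, y * z * y⁻¹ ∈ X := fun z hz => by
    have hwz : Commute w z :=
      (hcom hw hz.1).mp (hclq _ (hblk hw huw hvw) _ (hblk hz.1 hz.2.1 hz.2.2))
    have h1 := (cconj y w z).mpr hwz
    rw [hwu] at h1
    exact ⟨hcl z hz.1, h1, (cconj y u z).mpr hz.2.1⟩
  obtain ⟨z, hz, hyz⟩ := Large.exists_fixed_elem hy (T := X) hXcl (by rw [hXc]; decide)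
  exact hfree z hz.1.1.1 hyz

include S22 in
/-- every element of order three fixes a transposition -/
theorem exists_fixd (hD : Cfsg.IsThreeTranspositionGroup D) (hprim : Cfsg.IsPrimitiveUnderConj D)
    (h : Cfsg.IsOfTypeM23 G D) (S : StepData D E 3510 693 180 126 6531840) {y : G} (hy : y ^ 3 = 1) :
    (fixd D y).Nonempty := by
  by_contra hne
  rw [Set.not_nonempty_iff_eq_empty] at hne
  have hfree : ∀ d ∈ D, ¬ Commute y d := fun d hd hc => Set.eq_empty_iff_forall_notMem.mp hne d ⟨hd, hc⟩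
  obtain ⟨a, ha, hca⟩ := exists_commuting_move (M23Data.rankData hD hprim h S22 S) hy hfree
  set b := y * a * y⁻¹ with hbdef
  set c := y * b * y⁻¹ with hcdef
  have hb : b ∈ D := hD.2.1 y a ha
  have hc : c ∈ D := hD.2.1 y b hb
  have hcbc : Commute b c := (cconj y a b).mpr hca
  have hcy : y * c * y⁻¹ = a := cube_conj hy a
  have hcac : Commute a c := by
    have := (cconj y b c).mpr hcbc
    rw [hcy] at this
    exact this.symm
  have hba : b ≠ a := fun e => hfree a ha (mul_inv_eq_iff_eq_mul.mp e)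
  have hcb : c ≠ b := fun e => hfree b hb (mul_inv_eq_iff_eq_mul.mp e)
  have hac : c ≠ a := fun e => hfree c hc (mul_inv_eq_iff_eq_mul.mp (hcy.trans e.symm))
  exact triple_false S22 S ha ⟨hb, hba, hca⟩ ⟨hc, hac, hcac⟩ (Ne.symm hcb) hcbc hy rfl rfl hfree

end Cfsg.Agent.Lib.FischerMTypes32
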