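import Mathlib
import Cfsg.Agent.Lib.FischerMTypes32.Free
import Cfsg.Agent.Lib.FischerMTypes.Threes.Final

/-!
Type M(23): the four classes of subgroups of order three and the widths of their centralisers, lifted
from type M(22) at a fixed transposition.

Owner: helper32.
-/

set_option autoImplicit false
set_option linter.style.haveILetI false
set_option linter.unusedSectionVars false

namespace Cfsg.Agent.Lib.FischerMTypes32

open Cfsg.Agent.Lib.FischerMTypes Cfsg.Agent.Lib.FischerMTypes.Basic Cfsg.Agent.Lib.FischerMTypes.Primitive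
open Cfsg.Agent.Lib.FischerMTypes.Thirteen (fixd nbr)
open Cfsg.Agent.Lib.FischerMTypes.TraceCounts (Sys)
open Cfsg.Agent.Lib.FischerMTypes.Step (StepData)

universe u

variable {G : Type u} [Group G] [Finite G] {D : Set G}

/-- widths under a map keeping commutation both ways -/
theorem width_congr {H : Type*} [Group H] [Finite H] {T : Set G} {T' : Set H} (φ : G → H) (hinj : Set.InjOn φ T)
    (himg : φ '' T = T') (hc : ∀ a ∈ T, ∀ b ∈ T, (Commute (φ a) (φ b) ↔ Commute a b)) :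
    Cfsg.commutingWidth T = Cfsg.commutingWidth T' := by
  subst himg
  refine congrArg sSup (Set.ext fun n => ⟨?_, ?_⟩)
  · rintro ⟨K, hK, -, hcom, rfl⟩
    refine ⟨φ '' K, Set.image_mono hK, Set.toFinite _, ?_, (hinj.mono hK).ncard_image⟩
    rintro _ ⟨a, ha, rfl⟩ _ ⟨b, hb, rfl⟩
    exact (hc a (hK ha) b (hK hb)).mpr (hcom a ha b hb)
  · rintro ⟨K, hK, -, hcom, rfl⟩
    refine ⟨{a | a ∈ T ∧ φ a ∈ K}, fun a ha => ha.1, Set.toFinite _,
      fun a ha b hb => (hc a ha.1 b hb.1).mp (hcom _ ha.2 _ hb.2), ?_⟩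
    have hi : Set.InjOn φ {a | a ∈ T ∧ φ a ∈ K} := hinj.mono fun a ha => ha.1
    rw [← hi.ncard_image]
    congr 1
    ext q
    refine ⟨fun ⟨a, ha, e⟩ => e ▸ ha.2, fun hq => ?_⟩
    obtain ⟨a, ha, rfl⟩ := hK hq
    exact ⟨a, ⟨ha, hq⟩, rfl⟩

theorem width_fixd_move (hD : Cfsg.IsThreeTranspositionGroup D) (g x : G) :
    Cfsg.commutingWidth (fixd D (g * x * g⁻¹)) = Cfsg.commutingWidth (fixd D x) := by
  refine (width_congr (fun z => g * z * g⁻¹) (fun a _ b _ h => by simpa using h) ?_ fun a _ b _ => cconj g a b).symm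
  ext z
  constructor
  · rintro ⟨w, hw, rfl⟩
    exact ⟨hD.2.1 g w hw.1, (cconj g x w).mpr hw.2⟩
  · intro hz
    have e : g * (g⁻¹ * z * g) * g⁻¹ = z := by group
    refine ⟨g⁻¹ * z * g, ⟨by simpa using hD.2.1 g⁻¹ z hz.1, (cconj g x _).mp ?_⟩, e⟩
    rw [e]; exact hz.2

variable {Q : Type u} [Group Q] [Finite Q] {E : Set Q} {F : Type} [Field F] [Fintype F]

/-- the hypotheses gathered -/
structure Data (D : Set G) (E : Set Q) (F : Type) [Field F] [Fintype F] where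
  hD : Cfsg.IsThreeTranspositionGroup D
  hprim : Cfsg.IsPrimitiveUnderConj D
  h23 : Cfsg.IsOfTypeM23 G D
  S22 : Sys E F
  S : StepData D E 3510 693 180 126 6531840

namespace Data

variable (K : Data D E F)

include K in
theorem sq_one {d : G} (hd : d ∈ D) : d * d = 1 := mul_self K.S.hD.1 hd

include K in
theorem mem_closure {x d : G} (hd : d ∈ D) (hxd : Commute x d) : x ∈ Subgroup.closure (perp D d) := by
  rw [(M23Data.rankData K.hD K.hprim K.h23 K.S22 K.S).centralizer d hd]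
  exact Subgroup.mem_centralizer_singleton_iff.mpr hxd.eq

include K in
theorem eq_or_mul {u v d : G} (hd : d ∈ D) (hu : Commute u d) (hv : Commute v d)
    (he : K.S.f hd u = K.S.f hd v) : v = u ∨ v = u * d := by
  have h := (K.S.f_eq_iff hd (K.mem_closure hd hu) (K.mem_closure hd hv)).mp he
  rcases K.S.center_perp M23Data.small hd
    (mul_mem (inv_mem (K.mem_closure hd hu)) (K.mem_closure hd hv)) h with h1 | h1
  · exact Or.inl (inv_mul_eq_one.mp h1).symm
  · exact Or.inr (inv_mul_eq_iff_eq_mul.mp h1)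

include K in
theorem eq_of_f {u v d : G} (hd : d ∈ D) (hu : Commute u d) (hv : Commute v d) (hu3 : u ^ 3 = 1)
    (hv3 : v ^ 3 = 1) (he : K.S.f hd u = K.S.f hd v) : v = u := by
  rcases K.eq_or_mul hd hu hv he with h | h
  · exact h
  · exfalso
    rw [h, hu.mul_pow, hu3, one_mul, pow_succ, pow_two, K.sq_one hd, one_mul] at hv3
    exact absurd hv3 (by
      intro e
      have := K.S.hD.1.1 d hd
      rw [e, orderOf_one] at this
      norm_num at this)

include K in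
theorem f_cube {x d : G} (hd : d ∈ D) (hxd : Commute x d) (hx : x ^ 3 = 1) : K.S.f hd x ^ 3 = 1 := by
  have hm := K.mem_closure hd hxd
  rw [pow_succ, pow_two, ← K.S.f_mul hd hm hm, ← K.S.f_mul hd (mul_mem hm hm) hm, ← pow_two, ← pow_succ, hx,
    K.S.f_one hd]

include K in
theorem f_ne_one {x d : G} (hd : d ∈ D) (hxd : Commute x d) (hx : x ^ 3 = 1) (hx1 : x ≠ 1) :
    K.S.f hd x ≠ 1 := fun h =>
  hx1 (K.eq_of_f hd (Commute.one_left d) hxd (one_pow 3) hx (by rw [h, K.S.f_one hd]))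

include K in
theorem f_commute_iff {x d z : G} (hd : d ∈ D) (hxd : Commute x d) (hz : z ∈ perp D d) :
    Commute (K.S.f hd x) (K.S.f hd z) ↔ Commute x z := by
  have hm := K.mem_closure hd hxd
  have hzm : z ∈ Subgroup.closure (perp D d) := Subgroup.subset_closure hz
  constructor
  · intro h
    have hz' : x * z * x⁻¹ ∈ perp D d := by
      have h1 := (conj_mem_perp_iff K.hD x d z).mpr hz
      rwa [show x * d * x⁻¹ = d from mul_inv_eq_iff_eq_mul.mpr hxd.eq] at h1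
    have e : K.S.f hd (x * z * x⁻¹) = K.S.f hd z := by
      rw [K.S.f_conj hd hm hzm, h.eq]; group
    exact mul_inv_eq_iff_eq_mul.mp (K.S.f_inj hd hz' hz e)
  · intro h
    show _ * _ = _ * _
    rw [← K.S.f_mul hd hm hzm, ← K.S.f_mul hd hzm hm, h.eq]

include K in
theorem image_nbr {x d : G} (hd : d ∈ D) (hxd : Commute x d) :
    K.S.f hd '' nbr D x d = fixd E (K.S.f hd x) := by
  ext q
  constructor
  · rintro ⟨z, hz, rfl⟩
    exact ⟨K.S.f_mem hd hz.1, (K.f_commute_iff hd hxd hz.1).mpr hz.2⟩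
  · intro hq
    obtain ⟨z, hz, rfl⟩ := K.S.exists_f hd hq.1
    exact ⟨z, ⟨hz, (K.f_commute_iff hd hxd hz).mp hq.2⟩, rfl⟩

include K in
theorem width_nbr {x d : G} (hd : d ∈ D) (hxd : Commute x d) :
    Cfsg.commutingWidth (nbr D x d) = Cfsg.commutingWidth (fixd E (K.S.f hd x)) :=
  width_congr (K.S.f hd) (fun a ha b hb h => K.S.f_inj hd ha.1 hb.1 h) (K.image_nbr hd hxd)
    fun a ha b hb => K.S.commute_iff hd ha.1 hb.1

include K in
theorem ncard_second {x d d' : G} (hd : d ∈ D) (hxd : Commute x d) (hd' : d' ∈ nbr D x d) :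
    (nbr E (K.S.f hd x) (K.S.f hd d')).ncard = {z | z ∈ perp₂ D d d' ∧ Commute x z}.ncard := by
  symm
  refine Set.ncard_congr (fun z _ => K.S.f hd z) (fun z hz => ?_)
    (fun a b ha hb h => K.S.f_inj hd ha.1.1 hb.1.1 h) (fun q hq => ?_)
  · exact ⟨⟨K.S.f_mem hd hz.1.1, fun h => hz.1.2.2.1 (K.S.f_inj hd hz.1.1 hd'.1 h),
      (K.S.commute_iff hd hd'.1 hz.1.1).mpr hz.1.2.2.2⟩, (K.f_commute_iff hd hxd hz.1.1).mpr hz.2⟩
  · obtain ⟨z, hz, rfl⟩ := K.S.exists_f hd hq.1.1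
    exact ⟨z, ⟨⟨hz, hz.1, fun h => hq.1.2.1 (h ▸ rfl), (K.S.commute_iff hd hd'.1 hz).mp hq.1.2.2⟩,
      (K.f_commute_iff hd hxd hz).mp hq.2⟩, rfl⟩

include K in
/-- the width at a point is the same at a second fixed point -/
theorem width_nbr_eq {x d d' : G} (hx : x ^ 3 = 1) (hx1 : x ≠ 1) (hd : d ∈ fixd D x) (hd' : d' ∈ fixd D x) :
    Cfsg.commutingWidth (nbr D x d) = Cfsg.commutingWidth (nbr D x d') := by
  by_cases he : d' = d
  · rw [he]
  by_cases hc : Commute d d'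
  · have h1 : d' ∈ nbr D x d := ⟨⟨hd'.1, he, hc⟩, hd'.2⟩
    have h2 : d ∈ nbr D x d' := ⟨⟨hd.1, Ne.symm he, hc.symm⟩, hd.2⟩
    have q1 := K.f_cube hd.1 hd.2 hx
    have q2 := K.f_cube hd'.1 hd'.2 hx
    have n1 := K.f_ne_one hd.1 hd.2 hx hx1
    have n2 := K.f_ne_one hd'.1 hd'.2 hx hx1
    have m1 : K.S.f hd.1 d' ∈ fixd E (K.S.f hd.1 x) := K.image_nbr hd.1 hd.2 ▸ ⟨d', h1, rfl⟩
    have m2 : K.S.f hd'.1 d ∈ fixd E (K.S.f hd'.1 x) := K.image_nbr hd'.1 hd'.2 ▸ ⟨d, h2, rfl⟩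
    have e : (nbr E (K.S.f hd.1 x) (K.S.f hd.1 d')).ncard = (nbr E (K.S.f hd'.1 x) (K.S.f hd'.1 d)).ncard := by
      rw [K.ncard_second hd.1 hd.2 h1, K.ncard_second hd'.1 hd'.2 h2]
      congr 1
      ext z
      exact ⟨fun h => ⟨⟨h.1.2, h.1.1⟩, h.2⟩, fun h => ⟨⟨h.1.2, h.1.1⟩, h.2⟩⟩
    rw [K.width_nbr hd.1 hd.2, K.width_nbr hd'.1 hd'.2]
    rcases Threes.ncard_nbr_cases K.S22 q1 n1 m1.1 m1.2 with hn | hn | hn
    · rw [Threes.width_four K.S22 q1 n1 m1 hn, Threes.width_four K.S22 q2 n2 m2 (e ▸ hn)]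
    · rw [Threes.width_eighteen K.S22 q1 n1 m1 hn, Threes.width_eighteen K.S22 q2 n2 m2 (e ▸ hn)]
    · rw [Threes.width_nine K.S22 q1 n1 m1 hn, Threes.width_nine K.S22 q2 n2 m2 (e ▸ hn)]
  · have h3 : (d * d') ^ 3 = 1 := by
      rcases K.hD.1.2 d hd.1 d' hd'.1 with h | h
      · refine absurd ?_ hc
        have e := eq_inv_of_mul_eq_one_left ((pow_two (d * d')).symm.trans h)
        rw [mul_inv_rev, inv_eq K.hD.1 hd.1, inv_eq K.hD.1 hd'.1] at e
        exact e
      · exact h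
    have hgd : d * d' * d * (d * d')⁻¹ = d' := by
      rw [mul_inv_rev, inv_eq K.hD.1 hd.1, inv_eq K.hD.1 hd'.1]
      calc d * d' * d * (d' * d) = (d * d') ^ 3 * (d * d * d') * (d * d) := by
            rw [pow_succ, pow_two]
            simp only [mul_assoc]
            rw [← mul_assoc d d, K.sq_one hd.1, one_mul, ← mul_assoc d' d', K.sq_one hd'.1, one_mul]
            simp [← mul_assoc, K.sq_one hd.1]
        _ = d' := by rw [h3, K.sq_one hd.1, one_mul, one_mul, mul_one]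
    have hgx : Commute x (d * d') := hd.2.mul_right hd'.2
    refine width_congr (fun z => d * d' * z * (d * d')⁻¹) (fun a _ b _ h => by simpa using h) ?_
      (fun a _ b _ => cconj _ a b)
    have hgx' : d * d' * x * (d * d')⁻¹ = x := mul_inv_eq_iff_eq_mul.mpr hgx.eq.symm
    ext z
    constructor
    · rintro ⟨w, hw, rfl⟩
      refine ⟨?_, ?_⟩
      · have := (conj_mem_perp_iff K.hD (d * d') d w).mpr hw.1
        rwa [hgd] at this
      · have := (cconj (d * d') x w).mpr hw.2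
        rwa [hgx'] at this
    · intro hz
      have e : d * d' * ((d * d')⁻¹ * z * (d * d')) * (d * d')⁻¹ = z := by group
      refine ⟨(d * d')⁻¹ * z * (d * d'), ⟨(conj_mem_perp_iff K.hD (d * d') d _).mp ?_, (cconj (d * d') x _).mp ?_⟩, e⟩
      · rw [e, hgd]; exact hz.1
      · rw [e, hgx']; exact hz.2

include K in
/-- the width of the fixed set -/
theorem width_fixd {x d : G} (hx : x ^ 3 = 1) (hx1 : x ≠ 1) (hd : d ∈ fixd D x) :
    Cfsg.commutingWidth (fixd D x) = Cfsg.commutingWidth (fixd E (K.S.f hd.1 x)) + 1 := by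
  rw [← K.width_nbr hd.1 hd.2]
  set W := {m : ℕ | ∃ L : Set G, L ⊆ nbr D x d ∧ L.Finite ∧ (∀ a ∈ L, ∀ b ∈ L, Commute a b) ∧ L.ncard = m}
  refine Threes.width_eq (fun L hL hcom => ?_) ?_
  · rcases L.eq_empty_or_nonempty with rfl | ⟨a, ha⟩
    · simp
    have hmem : (L \ {a}).ncard ≤ Cfsg.commutingWidth (nbr D x a) := by
      refine le_csSup ⟨(nbr D x a).ncard, ?_⟩ ⟨L \ {a}, fun z hz => ⟨⟨(hL hz.1).1, hz.2, hcom a ha z hz.1⟩,
        (hL hz.1).2⟩, Set.toFinite _, fun p hp q hq => hcom p hp.1 q hq.1, rfl⟩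
      rintro _ ⟨M, hM, -, -, rfl⟩
      exact Set.ncard_le_ncard hM (Set.toFinite _)
    rw [K.width_nbr_eq hx hx1 (hL ha) hd, Set.ncard_sdiff_singleton_of_mem ha] at hmem
    omega
  · obtain ⟨L, hL, -, hcom, hn⟩ := Nat.sSup_mem (s := W) ⟨0, ∅, Set.empty_subset _, Set.finite_empty, by simp, by simp⟩
      ⟨(nbr D x d).ncard, by
        rintro _ ⟨M, hM, -, -, rfl⟩
        exact Set.ncard_le_ncard hM (Set.toFinite _)⟩
    refine ⟨insert d L, Set.insert_subset hd fun z hz => ⟨(hL hz).1.1, (hL hz).2⟩, ?_, ?_⟩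
    · rintro p (rfl | hp) q (rfl | hq)
      · exact Commute.refl _
      · exact (hL hq).1.2.2
      · exact (hL hp).1.2.2.symm
      · exact hcom p hp q hq
    · rw [Set.ncard_insert_of_notMem (fun h => (hL h).1.2.1 rfl), hn]
      rfl

include K in
theorem exists_lift {d : G} (hd : d ∈ D) {q : Q} (hq : orderOf q = 3) :
    ∃ x, x ^ 3 = 1 ∧ x ≠ 1 ∧ d ∈ fixd D x ∧ K.S.f hd x = q := by
  obtain ⟨h, hh, rfl⟩ := K.S.exists_f_closure hd q
  have hcd : Commute h d := (Levels.commute_closure (u := d) (fun s hs => hs.2.2) h hh).symm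
  have e3 : K.S.f hd (h ^ 3) = K.S.f hd 1 := by
    rw [K.S.f_one hd, pow_succ, pow_two, K.S.f_mul hd (mul_mem hh hh) hh, K.S.f_mul hd hh hh, ← pow_two,
      ← pow_succ]
    exact orderOf_dvd_iff_pow_eq_one.mp (dvd_of_eq hq)
  have h6 : (h ^ 4) ^ 3 = 1 := by
    rcases K.eq_or_mul hd (Commute.one_left d) (hcd.pow_left 3) e3.symm with h1 | h1
    · rw [← pow_mul, show 4 * 3 = 3 * 4 by norm_num, pow_mul, h1, one_pow]
    · rw [← pow_mul, show 4 * 3 = 3 * 4 by norm_num, pow_mul, h1, one_mul,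
        show d ^ 4 = d ^ 2 * d ^ 2 by rw [← pow_add], pow_two, K.sq_one hd, one_mul]
  have e4 : K.S.f hd (h ^ 4) = K.S.f hd h := by
    rw [pow_succ, K.S.f_mul hd (pow_mem hh 3) hh, e3, K.S.f_one hd, one_mul]
  refine ⟨h ^ 4, h6, fun e => ?_, ⟨hd, hcd.pow_left 4⟩, e4⟩
  rw [← e4, e, K.S.f_one hd, orderOf_one] at hq
  norm_num at hq

include K in
theorem four_classes : ∃ Y : Fin 4 → Subgroup G, (∀ i, Nat.card (Y i) = 3) ∧
    (∀ i j, (∃ g : G, (Y i).map (MulAut.conj g).toMonoidHom = Y j) → i = j) ∧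
    (∀ X : Subgroup G, Nat.card X = 3 → ∃ i, ∃ g : G, X.map (MulAut.conj g).toMonoidHom = Y i) ∧
    Cfsg.commutingWidth (D ∩ (Subgroup.centralizer ((Y 0 : Subgroup G) : Set G) : Set G)) = 7 ∧
    Cfsg.commutingWidth (D ∩ (Subgroup.centralizer ((Y 1 : Subgroup G) : Set G) : Set G)) = 5 ∧
    Cfsg.commutingWidth (D ∩ (Subgroup.centralizer ((Y 2 : Subgroup G) : Set G) : Set G)) = 4 ∧
    Cfsg.commutingWidth (D ∩ (Subgroup.centralizer ((Y 3 : Subgroup G) : Set G) : Set G)) = 1 := by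
  classical
  have : Fact (Nat.Prime 3) := ⟨Nat.prime_three⟩
  obtain ⟨d, hd, -⟩ := K.hprim.2.1
  obtain ⟨YQ, hcard, -, hall, w0, w1, w2, w3⟩ := Threes.four_classes K.S22
  choose q hq hYq using fun i => PrimeOnce.exists_gen (hcard i)
  choose x hx hx1 hxd hxq using fun i => K.exists_lift hd (hq i)
  have hwQ : ∀ i, Cfsg.commutingWidth (fixd E (q i)) = ![6, 4, 3, 0] i := fun i => by
    rw [← Threes.fixd_zpowers (q i), ← hYq i]
    fin_cases i
    exacts [w0, w1, w2, w3]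
  have hw : ∀ i, Cfsg.commutingWidth (fixd D (x i)) = ![6, 4, 3, 0] i + 1 := fun i => by
    rw [K.width_fixd (hx i) (hx1 i) (hxd i), hxq i, hwQ i]
  have key : ∀ a b : Fin 4, (![6, 4, 3, 0] : Fin 4 → ℕ) a = ![6, 4, 3, 0] b → a = b := by decide
  refine ⟨fun i => Subgroup.zpowers (x i), fun i => by rw [Nat.card_zpowers, orderOf_eq_prime (hx i) (hx1 i)],
    fun i j hij => ?_, fun X hX => ?_, ?_, ?_, ?_, ?_⟩
  · obtain ⟨g, hg⟩ := hij
    rw [Threes.map_zpowers] at hg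
    refine key i j (Nat.add_right_cancel (m := 1) ?_)
    rw [← hw i, ← hw j, ← width_fixd_move K.hD g (x i), Threes.fixd_congr hg]
  · obtain ⟨z, hz, rfl⟩ := PrimeOnce.exists_gen hX
    have hz3 : z ^ 3 = 1 := hz ▸ pow_orderOf_eq_one z
    have hz1 : z ≠ 1 := fun h => by rw [h, orderOf_one] at hz; norm_num at hz
    obtain ⟨e, he⟩ := exists_fixd K.S22 K.hD K.hprim K.h23 K.S hz3
    obtain ⟨g, hg⟩ := K.hprim.1 e he.1 d hd
    set z' := g * z * g⁻¹ with hz'
    have z3 : z' ^ 3 = 1 := by rw [hz', conj_pow, hz3]; simp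
    have z1 : z' ≠ 1 := by simpa [hz'] using hz1
    have zd : Commute z' d := hg ▸ (cconj g z e).mpr he.2
    set p := K.S.f hd z'
    have hp : orderOf p = 3 := orderOf_eq_prime (K.f_cube hd zd z3) (K.f_ne_one hd zd z3 z1)
    obtain ⟨i, k, hk⟩ := hall (Subgroup.zpowers p) (by rw [Nat.card_zpowers, hp])
    rw [Threes.map_zpowers, hYq i] at hk
    obtain ⟨h, hh, rfl⟩ := K.S.exists_f_closure hd k
    have hzm : z' ∈ Subgroup.closure (perp D d) := K.mem_closure hd zd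
    rw [← K.S.f_conj hd hh hzm] at hk
    have hcd : Commute h d := (Levels.commute_closure (u := d) (fun s hs => hs.2.2) h hh).symm
    set v := h * z' * h⁻¹ with hv
    have v3 : v ^ 3 = 1 := by rw [hv, conj_pow, z3]; simp
    have vd : Commute v d := (hcd.mul_left zd).mul_left hcd.inv_left
    refine ⟨i, h * g, ?_⟩
    rw [Threes.map_zpowers, show h * g * z * (h * g)⁻¹ = v by rw [hv, hz']; group]
    obtain ⟨m, hm⟩ : ∃ m : ℕ, K.S.f hd v ^ m = q i :=
      Submonoid.mem_powers_iff _ _ |>.mp ((mem_powers_iff_mem_zpowers).mpr (hk ▸ Subgroup.mem_zpowers (q i)))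
    have hvm : v ∈ Subgroup.closure (perp D d) := K.mem_closure hd vd
    have hfm : ∀ m : ℕ, K.S.f hd (v ^ m) = K.S.f hd v ^ m := fun m => by
      induction m with
      | zero => simp [K.S.f_one hd]
      | succ m ih => rw [pow_succ, pow_succ, K.S.f_mul hd (pow_mem hvm m) hvm, ih]
    have hxm : x i = v ^ m := K.eq_of_f hd (vd.pow_left m) (hxd i).2
      (by rw [← pow_mul, mul_comm, pow_mul, v3, one_pow]) (hx i) (by rw [hfm, hm, hxq i])
    have hle : Subgroup.zpowers (x i) ≤ Subgroup.zpowers v :=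
      Subgroup.zpowers_le.mpr (hxm ▸ Subgroup.pow_mem _ (Subgroup.mem_zpowers v) m)
    refine (Subgroup.eq_of_le_of_card_ge hle ?_).symm
    rw [Nat.card_zpowers, Nat.card_zpowers, orderOf_eq_prime (hx i) (hx1 i)]
    exact Nat.le_of_dvd (by norm_num) (orderOf_dvd_of_pow_eq_one v3)
  all_goals rw [Threes.fixd_zpowers, hw]
  all_goals rfl

end Data

end Cfsg.Agent.Lib.FischerMTypes32
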